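/-
The twelve generators as permutations of 306936 points: the lookup.
-/
import Cfsg.Agent.Lib.Spor.Fi24Pres.Rows.Part0
import Cfsg.Agent.Lib.Spor.Fi24Pres.Rows.Part1
import Cfsg.Agent.Lib.Spor.Fi24Pres.Rows.Part2
import Cfsg.Agent.Lib.Spor.Fi24Pres.Rows.Part3
import Cfsg.Agent.Lib.Spor.Fi24Pres.Rows.Part4
import Cfsg.Agent.Lib.Spor.Fi24Pres.Rows.Part5
import Cfsg.Agent.Lib.Spor.Fi24Pres.Rows.Part6
import Cfsg.Agent.Lib.Spor.Fi24Pres.Rows.Part7
import Cfsg.Agent.Lib.Spor.Fi24Pres.Rows.Part8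
import Cfsg.Agent.Lib.Spor.Fi24Pres.Rows.Part9
import Cfsg.Agent.Lib.Spor.Fi24Pres.Rows.Part10
import Cfsg.Agent.Lib.Spor.Fi24Pres.Rows.Part11
import Cfsg.Agent.Lib.Spor.Fi24Pres.Rows.Part12
import Cfsg.Agent.Lib.Spor.Fi24Pres.Rows.Part13
import Cfsg.Agent.Lib.Spor.Fi24Pres.Rows.Part14
import Cfsg.Agent.Lib.Spor.Fi24Pres.Rows.Part15

namespace CfsgLib.Spor.Fi24

/-- The block holding row `128 k`. -/
noncomputable def blockOf (k : ℕ) : ℕ :=
  (Bool.rec (Bool.rec (Bool.rec (Bool.rec (sel2250_2398 k) (sel2100_2250 k) (Nat.blt k 2250)) (Bool.rec (sel1950_2100 k) (sel1800_1950 k) (Nat.blt k 1950)) (Nat.blt k 2100)) (Bool.rec (Bool.rec (sel1650_1800 k) (sel1500_1650 k) (Nat.blt k 1650)) (Bool.rec (sel1350_1500 k) (sel1200_1350 k) (Nat.blt k 1350)) (Nat.blt k 1500)) (Nat.blt k 1800)) (Bool.rec (Bool.rec (Bool.rec (sel1050_1200 k) (sel900_1050 k) (Nat.blt k 1050)) (Bool.rec (sel750_900 k) (sel600_750 k) (Nat.blt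 k 750)) (Nat.blt k 900)) (Bool.rec (Bool.rec (sel450_600 k) (sel300_450 k) (Nat.blt k 450)) (Bool.rec (sel150_300 k) (sel0_150 k) (Nat.blt k 150)) (Nat.blt k 300)) (Nat.blt k 600)) (Nat.blt k 1200))

/-- The twelve images of a point, in nineteen bits each. -/
noncomputable def row (p : ℕ) : ℕ :=
  Nat.land (Nat.shiftRight (blockOf (Nat.shiftRight p 7)) (Nat.mul 228 (Nat.land p 127))) 431359146674410236714672241392314090778194310760649159697657763987455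

/-- One of the twelve images. -/
noncomputable def dig (r x : ℕ) : ℕ := Nat.land (Nat.shiftRight r (Nat.mul 19 x)) 524287

end CfsgLib.Spor.Fi24
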